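import Groth.Agent.Lib.RigidRel.MulEtale
import Groth.Agent.Lib.AbRigid.FlatFibre
import Groth.Agent.Lib.VarDim.Fibre

/-!
# Powers prime to the characteristics on smooth commutative groups are étale
-/

universe u

open CategoryTheory Limits AlgebraicGeometry MonoidalCategory CartesianMonoidalCategory MonObj

set_option linter.style.haveILetI false
set_option backward.isDefEq.respectTransparency false

namespace Groth.Agent.TorsLift22

open scoped CategoryTheory.Obj

theorem isMonHom_zpow {S : Scheme.{u}} (X : Over S) [GrpObj X] [IsCommMonObj X] (n : ℕ) : IsMonHom (𝟙 X ^ n) := by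
  refine ⟨?_, ?_⟩
  · rw [MonObj.comp_pow, Category.comp_id, one_eq_one, one_pow]
  · rw [MonObj.comp_pow, Category.comp_id, ← lift_fst_comp_snd_comp, ← Hom.mul_def, MonObj.comp_pow,
      MonObj.comp_pow, Category.comp_id, Category.comp_id, ← mul_pow]
    congr 1
    rw [Hom.mul_def, lift_fst_snd, Category.id_comp]

/-- The stalk of a reduced scheme at a maximal point is a field. -/
theorem isField_stalk_of_maximal {X : Scheme.{u}} [IsReduced X] (x : X) (h : ∀ y : X, y ⤳ x → y = x) :
    IsField (X.presheaf.stalk x) := by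
  have hsub : ∀ p : Spec (X.presheaf.stalk x), X.fromSpecStalk x p = x := fun p => h _ (by
    have : X.fromSpecStalk x p ∈ Set.range (X.fromSpecStalk x) := ⟨p, rfl⟩
    rw [Scheme.range_fromSpecStalk] at this
    exact this)
  haveI : Subsingleton (Spec (X.presheaf.stalk x)) :=
    ⟨fun p q => (X.fromSpecStalk x).isEmbedding.injective ((hsub p).trans (hsub q).symm)⟩
  haveI : Subsingleton (PrimeSpectrum (X.presheaf.stalk x)) := this
  rw [IsLocalRing.isField_iff_maximalIdeal_eq]
  refine le_bot_iff.1 fun a ha => ?_
  have hn : IsNilpotent a := by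
    rw [← mem_nilradical, nilradical_eq_sInf, Ideal.mem_sInf]
    intro J hJ
    have he : (⟨J, hJ⟩ : PrimeSpectrum (X.presheaf.stalk x)) =
        ⟨IsLocalRing.maximalIdeal _, inferInstance⟩ := Subsingleton.elim _ _
    rw [show J = IsLocalRing.maximalIdeal _ from congrArg PrimeSpectrum.asIdeal he]
    exact ha
  exact (Submodule.mem_bot _).2 hn.eq_zero

open VarDim in
/-- A quasi-finite endomorphism of a reduced group of finite type over a field is flat. -/
theorem flat_of_locallyQuasiFinite {k : Type u} [Field k] (G : Over (Spec (CommRingCat.of k))) [GrpObj G]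
    [IsReduced G.left] [LocallyOfFiniteType G.hom] [QuasiCompact G.hom]
    (f : G ⟶ G) [IsMonHom f] [LocallyQuasiFinite f.left] : Flat f.left := by
  haveI : IsLocallyNoetherian G.left := LocallyOfFiniteType.isLocallyNoetherian G.hom
  haveI : CompactSpace G.left := QuasiCompact.compactSpace_of_compactSpace G.hom
  haveI : IsNoetherian G.left := {}
  obtain ⟨s, hs⟩ := exists_finite_generic (isClosed_univ (X := G.left))
  haveI : Nonempty G.left := ⟨η[G].left (IsLocalRing.closedPoint k)⟩
  have hne : s.Nonempty := by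
    obtain ⟨x⟩ := ‹Nonempty G.left›
    obtain ⟨ζ, hζ, -⟩ := (hs x).1 (Set.mem_univ x)
    exact ⟨ζ, hζ⟩
  obtain ⟨ξ, hξs, hξ⟩ := s.exists_max_image (sdim G.hom) hne
  have hmax : ∀ y, sdim G.hom y ≤ sdim G.hom ξ := fun y => by
    obtain ⟨ζ, hζ, hζy⟩ := (hs y).1 (Set.mem_univ y)
    refine le_trans ?_ (hξ ζ hζ)
    by_cases he : ζ = y
    · rw [he]
    · exact (sdim_lt_of_specializes G.hom hζy he).le
  haveI : LocallyOfFiniteType (f.left ≫ G.hom) := by rw [Over.w]; infer_instance
  haveI : LocallyOfFiniteType f.left := locallyOfFiniteType_of_comp f.left G.hom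
  have heq : sdim G.hom (f.left ξ) = sdim G.hom ξ := by
    refine le_antisymm (hmax _) ?_
    have hfib : topologicalKrullDim (f.left ⁻¹' {f.left ξ} : Set G.left) ≤ ((0 : ℕ) : WithBot ℕ∞) := by
      haveI : DiscreteTopology ↥(f.left ⁻¹' {f.left ξ}) :=
        (f.left.isDiscrete_preimage_singleton _).to_subtype
      simpa using topologicalKrullDim_zero_of_discreteTopology ↥(f.left ⁻¹' {f.left ξ})
    have h3 := (dim_preimage_singleton_le_iff G.hom f.left _ 0).1 hfib ξ rfl
    rw [Over.w] at h3
    omega
  refine AbRigid.flat_of_flat_stalkMap G G f ξ ?_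
  have hF : IsField (G.left.presheaf.stalk (f.left ξ)) := isField_stalk_of_maximal _ fun y hy => by
    by_contra hne'
    have := sdim_lt_of_specializes G.hom hy hne'
    have := hmax y
    omega
  letI : Field (G.left.presheaf.stalk (f.left ξ)) := hF.toField
  algebraize [(f.left.stalkMap ξ).hom]
  exact (inferInstance : Module.Flat (G.left.presheaf.stalk (f.left ξ)) (G.left.presheaf.stalk ξ))

/-- The power map by an invertible integer on a smooth commutative group is étale. -/
theorem etale_pow {S : Scheme.{u}} (X : Over S) [GrpObj X] [IsCommMonObj X] [Smooth X.hom] [IsSeparated X.hom]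
    [QuasiCompact X.hom] {n : ℕ} (hn : IsUnit (n : Γ(S, ⊤))) : Etale (𝟙 X ^ n).left := by
  haveI := isMonHom_zpow X n
  haveI hu : FormallyUnramified (𝟙 X ^ n).left := by
    have := MulEtale.formallyUnramified_zpow X (n : ℤ) (by simpa using hn)
    rwa [zpow_natCast] at this
  set f := (𝟙 X ^ n).left with hf
  have hfw : f ≫ X.hom = X.hom := Over.w _
  haveI : Flat (f ≫ X.hom) := by rw [hfw]; infer_instance
  haveI : LocallyOfFinitePresentation (f ≫ X.hom) := by rw [hfw]; infer_instance
  haveI : IsSeparated (f ≫ X.hom) := by rw [hfw]; infer_instance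
  haveI : LocallyOfFinitePresentation f := SchBasic.locallyOfFinitePresentation_of_comp f X.hom
  haveI : LocallyQuasiFinite f := MulEtale.locallyQuasiFinite_of_unramified f
  haveI : Flat f := FlatH4.flat_of_fibres f X.hom fun s => by
    refine (AbRigid.fibre_iff (𝟙 X ^ n) s @Flat).2 ?_
    let Y := (Over.pullback (S.fromSpecResidueField s)).obj X
    haveI : Smooth Y.hom := inferInstanceAs (Smooth (pullback.snd X.hom (S.fromSpecResidueField s)))
    haveI : IsReduced Y.left := AbRigid.isReduced_of_smooth_over_field Y.hom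
    haveI : QuasiCompact Y.hom := inferInstanceAs (QuasiCompact (pullback.snd X.hom (S.fromSpecResidueField s)))
    haveI : LocallyQuasiFinite (AbRigid.fibreMap (𝟙 X ^ n) s).left :=
      MorphismProperty.of_isPullback (AbRigid.isPullback_fibreMap (𝟙 X ^ n) s) ‹LocallyQuasiFinite f›
    exact flat_of_locallyQuasiFinite Y (AbRigid.fibreMap (𝟙 X ^ n) s)
  exact Etale.iff_flat_and_formallyUnramified.2 ⟨inferInstance, inferInstance, inferInstance⟩

end Groth.Agent.TorsLift22
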