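import Groth.Agent.Lib.TorsLift22.Etale
import Groth.Agent.Lib.Hens.Pair
import Groth.Agent.Lib.Hens.Local
import Groth.Agent.Lib.TateTors22.TateFinite
import Groth.Agent.Lib.RegLoc.UFD
import Groth.Prelude.Def_AbDual
import Groth.Prelude.Def_AgPol

/-!
# Lifting torsion points
-/

universe u

open CategoryTheory Limits AlgebraicGeometry MonoidalCategory CartesianMonoidalCategory MonObj

set_option linter.style.haveILetI false
set_option backward.isDefEq.respectTransparency false

namespace Groth.Agent.TorsLift22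

variable {R : Type u} [CommRing R] [IsLocalRing R] {G : Over (Spec (CommRingCat.of R))} [GrpObj G] [IsCommMonObj G]

local notation "res" => Spec.map (CommRingCat.ofHom (IsLocalRing.residue R))

omit [IsLocalRing R] in
/-- A torsion point over `T` gives a point of the kernel. -/
theorem exists_kerPt {T : Over (Spec (CommRingCat.of R))} (N : ℕ) (x : T ⟶ G) (hx : x ^ N = 1) :
    ∃ z : T.left ⟶ pullback (𝟙 G ^ N).left η[G].left,
      z ≫ pullback.fst _ _ = x.left ∧ z ≫ pullback.snd _ _ = T.hom := by
  refine ⟨pullback.lift x.left T.hom ?_, pullback.lift_fst _ _ _, pullback.lift_snd _ _ _⟩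
  have h : x ≫ (𝟙 G ^ N) = 1 := by rw [MonObj.comp_pow, Category.comp_id, hx]
  have h' := congrArg (fun a : T ⟶ G => a.left) h
  rw [Over.comp_left] at h'
  rw [h', Hom.one_def, Over.comp_left]
  rfl

/-- Torsion points of order invertible in the residue field are determined by their reductions. -/
theorem eq_of_res_eq [LocallyOfFiniteType G.hom] {N : ℕ} (hN : IsUnit (N : R))
    {a b : Over.mk (𝟙 (Spec (CommRingCat.of R))) ⟶ G} (ha : a ^ N = 1) (hb : b ^ N = 1)
    (h : res ≫ a.left = res ≫ b.left) : a = b := by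
  refine MulEtale.eq_of_zpow_eq G (W := CommRingCat.of R) (𝟙 _) a b (N : ℤ) ?_ ?_ h
  · rwa [Int.cast_natCast]
  · rw [zpow_natCast, zpow_natCast, ha, hb]

/-- Sections of étale separated schemes lift over henselian local rings. -/
theorem exists_section {R : Type u} [CommRing R] [HenselianLocalRing R] {Z : Scheme.{u}}
    (q : Z ⟶ Spec (CommRingCat.of R)) [Etale q]
    (z : Spec (CommRingCat.of (IsLocalRing.ResidueField R)) ⟶ Z)
    (hz : z ≫ q = Spec.map (CommRingCat.ofHom (IsLocalRing.residue R))) :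
    ∃ s : Spec (CommRingCat.of R) ⟶ Z, s ≫ q = 𝟙 _ ∧
      Spec.map (CommRingCat.ofHom (IsLocalRing.residue R)) ≫ s = z := by
  obtain ⟨U, hU, hxU, -⟩ := exists_isAffineOpen_mem_and_subset (U := (⊤ : Z.Opens))
    (x := z (IsLocalRing.closedPoint _)) trivial
  let φ : CommRingCat.of R ⟶ Γ(Z, U) := Spec.preimage (hU.fromSpec ≫ q)
  have hφ : Spec.map φ = hU.fromSpec ≫ q := Spec.map_preimage _
  letI : Algebra R Γ(Z, U) := φ.hom.toAlgebra
  haveI : Algebra.Etale R Γ(Z, U) := by
    have h : Etale (Spec.map φ) := by rw [hφ]; infer_instance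
    rw [HasRingHomProperty.Spec_iff (P := @Etale)] at h
    exact h
  have hrange : Set.range z ⊆ Set.range hU.fromSpec := by
    rintro _ ⟨x, rfl⟩
    rw [hU.range_fromSpec, show x = IsLocalRing.closedPoint _ from
      Subsingleton.elim (α := PrimeSpectrum (IsLocalRing.ResidueField R)) _ _]
    exact hxU
  let z' := IsOpenImmersion.lift hU.fromSpec z hrange
  have hz' : z' ≫ hU.fromSpec = z := IsOpenImmersion.lift_fac _ _ hrange
  let σ : Γ(Z, U) →ₐ[R] R ⧸ IsLocalRing.maximalIdeal R :=
    { toRingHom := (Spec.preimage z').hom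
      commutes' := fun r => by
        have h : φ ≫ Spec.preimage z' = CommRingCat.ofHom (IsLocalRing.residue R) := by
          apply Spec.map_injective
          rw [Spec.map_comp, Spec.map_preimage, hφ, ← Category.assoc, hz', hz]
        exact congrArg (fun g : CommRingCat.of R ⟶ CommRingCat.of (IsLocalRing.ResidueField R) => g.hom r) h }
  obtain ⟨τ, hτ, -⟩ := Hens.existsUnique_lift_of_henselianRing (Hens.henselianRing_maximalIdeal R) σ
  refine ⟨Spec.map (CommRingCat.ofHom τ.toRingHom) ≫ hU.fromSpec, ?_, ?_⟩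
  · rw [Category.assoc, ← hφ, ← Spec.map_comp, ← Spec.map_id]
    congr 1
    ext1
    exact RingHom.ext fun r => τ.commutes r
  · rw [← Category.assoc, ← Spec.map_comp, ← hz']
    congr 1
    rw [← Spec.map_preimage z']
    congr 1
    ext1
    exact congrArg AlgHom.toRingHom hτ

/-- Torsion points of invertible order lift over henselian local rings. -/
theorem existsUnique_lift {R : Type u} [CommRing R] [HenselianLocalRing R]
    {G : Over (Spec (CommRingCat.of R))} [GrpObj G] [IsCommMonObj G] [Smooth G.hom] [IsSeparated G.hom]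
    [QuasiCompact G.hom] {N : ℕ} (hN : IsUnit (N : R))
    (τ : Over.mk (Spec.map (CommRingCat.ofHom (IsLocalRing.residue R))) ⟶ G) (hτ : τ ^ N = 1) :
    ∃! σ : Over.mk (𝟙 (Spec (CommRingCat.of R))) ⟶ G, σ ^ N = 1 ∧
      Over.homMk (Spec.map (CommRingCat.ofHom (IsLocalRing.residue R))) (Category.comp_id _) ≫ σ = τ := by
  have hu : IsUnit (N : Γ(Spec (CommRingCat.of R), ⊤)) := by
    have := hN.map (Scheme.ΓSpecIso (CommRingCat.of R)).inv.hom
    rwa [map_natCast] at this
  haveI := etale_pow G hu
  haveI : Etale (pullback.snd (𝟙 G ^ N).left η[G].left) := MorphismProperty.pullback_snd _ _ ‹_›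
  obtain ⟨z, hz1, hz2⟩ := exists_kerPt N τ hτ
  obtain ⟨s, hs, hsz⟩ := exists_section (pullback.snd (𝟙 G ^ N).left η[G].left) z hz2
  have hw : pullback.fst (𝟙 G ^ N).left η[G].left ≫ G.hom = pullback.snd (𝟙 G ^ N).left η[G].left := by
    rw [← Over.w (𝟙 G ^ N), pullback.condition_assoc, Over.w η[G]]
    exact Category.comp_id _
  let σ : Over.mk (𝟙 (Spec (CommRingCat.of R))) ⟶ G := Over.homMk (s ≫ pullback.fst _ _) (by
    rw [Category.assoc, hw]
    exact hs)
  have hσ : σ ^ N = 1 := by
    have h : σ ≫ (𝟙 G ^ N) = 1 := by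
      ext1
      show (s ≫ pullback.fst _ _) ≫ (𝟙 G ^ N).left = _
      rw [Category.assoc, pullback.condition, ← Category.assoc, hs, Hom.one_def, Over.comp_left]
      rfl
    rwa [MonObj.comp_pow, Category.comp_id] at h
  refine ⟨σ, ⟨hσ, ?_⟩, ?_⟩
  · ext1
    show Spec.map (CommRingCat.ofHom (IsLocalRing.residue R)) ≫ s ≫ pullback.fst _ _ = τ.left
    rw [← Category.assoc, hsz, hz1]
  · rintro b ⟨hb, hb'⟩
    refine eq_of_res_eq hN hb hσ ?_
    have := congrArg (fun a : Over.mk (Spec.map (CommRingCat.ofHom (IsLocalRing.residue R))) ⟶ G => a.left) hb'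
    rw [Over.comp_left] at this
    refine this.trans ?_
    show τ.left = _ ≫ s ≫ pullback.fst _ _
    rw [← Category.assoc, hsz, hz1]

/-- Over a regular local ring the torsion of the generic fibre injects in the torsion of the closed fibre. -/
theorem card_torsPts_le {R : Type u} [CommRing R] [IsDomain R] [IsRegularLocalRing R]
    (G : Over (Spec (CommRingCat.of R))) [GrpObj G] [IsCommMonObj G] [IsProper G.hom] [Smooth G.hom]
    [GeometricallyConnected G.hom] [GeometricallyReduced G.hom] {N : ℕ} (hN : IsUnit (N : R)) :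
    Nat.card (AbDual.torsPts G N (Over.mk (Spec.map (CommRingCat.ofHom (algebraMap R (FractionRing R)))))) ≤
      Nat.card (AbDual.torsPts G N (Over.mk (Spec.map (CommRingCat.ofHom (IsLocalRing.residue R))))) := by
  classical
  haveI : UniqueFactorizationMonoid R := RegLoc.ufd_of_isRegularLocalRing R
  haveI : IsIntegrallyClosed R := inferInstance
  have hu : IsUnit ((N : ℤ) : Γ(Spec (CommRingCat.of R), ⊤)) := by
    have := hN.map (Scheme.ΓSpecIso (CommRingCat.of R)).inv.hom
    rw [map_natCast] at this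
    rwa [Int.cast_natCast]
  obtain ⟨hfin, -, -⟩ := MulEtale.isFinite_and_etale_zpow G (N : ℤ) hu
  rw [zpow_natCast] at hfin
  haveI := hfin
  let P := pullback (𝟙 G ^ N).left η[G].left
  let q : P ⟶ Spec (CommRingCat.of R) := pullback.snd (𝟙 G ^ N).left η[G].left
  haveI : IsFinite q := MorphismProperty.pullback_snd _ _ hfin
  haveI : IsAffine P := isAffine_of_isAffineHom q
  let φ : CommRingCat.of R ⟶ Γ(P, ⊤) := Spec.preimage (P.isoSpec.inv ≫ q)
  have hφ : Spec.map φ = P.isoSpec.inv ≫ q := Spec.map_preimage _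
  letI : Algebra R Γ(P, ⊤) := φ.hom.toAlgebra
  haveI : Module.Finite R Γ(P, ⊤) := by
    have h : IsFinite (Spec.map φ) := by rw [hφ]; infer_instance
    rwa [IsFinite.SpecMap_iff] at h
  let K := FractionRing R
  have hkey : ∀ x : AbDual.torsPts G N (Over.mk (Spec.map (CommRingCat.ofHom (algebraMap R K)))),
      ∃ a : Over.mk (𝟙 (Spec (CommRingCat.of R))) ⟶ G, a ^ N = 1 ∧
        Spec.map (CommRingCat.ofHom (algebraMap R K)) ≫ a.left = x.1.left := fun x => by
    obtain ⟨z, hz1, hz2⟩ := exists_kerPt N x.1 x.2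
    have hψc : φ ≫ Spec.preimage (z ≫ P.isoSpec.hom) = CommRingCat.ofHom (algebraMap R K) := by
      apply Spec.map_injective
      rw [Spec.map_comp, Spec.map_preimage, hφ, Category.assoc, Iso.hom_inv_id_assoc]
      exact hz2
    let ψ : Γ(P, ⊤) →ₐ[R] K :=
      { toRingHom := (Spec.preimage (z ≫ P.isoSpec.hom)).hom
        commutes' := fun r => congrArg (fun g : CommRingCat.of R ⟶ CommRingCat.of K => g.hom r) hψc }
    have hmem : ∀ e, ψ e ∈ (Algebra.ofId R K).range := fun e => by
      obtain ⟨r, hr⟩ := IsIntegrallyClosed.isIntegral_iff.1 ((Algebra.IsIntegral.isIntegral (R := R) e).map ψ)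
      exact ⟨r, hr⟩
    let ρ : Γ(P, ⊤) →ₐ[R] R := (AlgEquiv.ofInjective (Algebra.ofId R K) (IsFractionRing.injective R K)).symm.toAlgHom.comp
      (ψ.codRestrict _ hmem)
    have hρ : ∀ e, algebraMap R K (ρ e) = ψ e := fun e => by
      have h := (AlgEquiv.ofInjective (Algebra.ofId R K) (IsFractionRing.injective R K)).apply_symm_apply
        (ψ.codRestrict _ hmem e)
      exact congrArg Subtype.val h
    let s : Spec (CommRingCat.of R) ⟶ P := Spec.map (CommRingCat.ofHom ρ.toRingHom) ≫ P.isoSpec.inv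
    have hs : s ≫ q = 𝟙 _ := by
      show (_ ≫ P.isoSpec.inv) ≫ q = _
      rw [Category.assoc, ← hφ, ← Spec.map_comp, ← Spec.map_id]
      congr 1
      ext1
      exact RingHom.ext fun r => ρ.commutes r
    have hsz : Spec.map (CommRingCat.ofHom (algebraMap R K)) ≫ s = z := by
      show _ ≫ _ ≫ P.isoSpec.inv = z
      rw [← Category.assoc, ← Spec.map_comp, Iso.comp_inv_eq, ← Spec.map_preimage (z ≫ P.isoSpec.hom)]
      congr 1
      ext1
      exact RingHom.ext hρ
    have hw : pullback.fst (𝟙 G ^ N).left η[G].left ≫ G.hom = q := by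
      rw [← Over.w (𝟙 G ^ N), pullback.condition_assoc, Over.w η[G]]
      exact Category.comp_id _
    refine ⟨Over.homMk (s ≫ pullback.fst _ _) (by rw [Category.assoc, hw]; exact hs), ?_, ?_⟩
    · have h : (Over.homMk (s ≫ pullback.fst (𝟙 G ^ N).left η[G].left) (by rw [Category.assoc, hw]; exact hs) :
          Over.mk (𝟙 (Spec (CommRingCat.of R))) ⟶ G) ≫ (𝟙 G ^ N) = 1 := by
        ext1
        show (s ≫ pullback.fst _ _) ≫ (𝟙 G ^ N).left = _
        rw [Category.assoc, pullback.condition, ← Category.assoc, hs, Hom.one_def, Over.comp_left]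
        rfl
      rwa [MonObj.comp_pow, Category.comp_id] at h
    · show _ ≫ s ≫ pullback.fst _ _ = _
      rw [← Category.assoc, hsz, hz1]
  choose a ha1 ha2 using hkey
  let ι' : Over.mk (Spec.map (CommRingCat.ofHom (IsLocalRing.residue R))) ⟶ Over.mk (𝟙 (Spec (CommRingCat.of R))) :=
    Over.homMk (Spec.map (CommRingCat.ofHom (IsLocalRing.residue R))) (Category.comp_id _)
  let Φ : AbDual.torsPts G N (Over.mk (Spec.map (CommRingCat.ofHom (algebraMap R K)))) →
      AbDual.torsPts G N (Over.mk (Spec.map (CommRingCat.ofHom (IsLocalRing.residue R)))) := fun x =>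
    ⟨ι' ≫ a x, by rw [AbDual.mem_torsPts, ← MonObj.comp_pow, ha1, MonObj.comp_one]⟩
  have hΦ : Function.Injective Φ := fun x y h => by
    have hab : a x = a y := eq_of_res_eq hN (ha1 x) (ha1 y) (congrArg (fun b => b.1.left) h)
    exact Subtype.ext (Over.OverMorphism.ext ((ha2 x).symm.trans ((congrArg (fun b => _ ≫ b.left) hab).trans (ha2 y))))
  haveI : Finite (AbDual.torsPts G N (Over.mk (Spec.map (CommRingCat.ofHom (IsLocalRing.residue R))))) := by
    let κ := IsLocalRing.ResidueField R
    let Zk : Over (Spec (CommRingCat.of κ)) :=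
      Over.mk (pullback.snd q (Spec.map (CommRingCat.ofHom (IsLocalRing.residue R))))
    haveI : IsFinite Zk.hom := MorphismProperty.pullback_snd _ _ ‹IsFinite q›
    haveI := TateTors22.finite_points κ Zk
    choose z hz1 hz2 using fun x : AbDual.torsPts G N (Over.mk (Spec.map (CommRingCat.ofHom (IsLocalRing.residue R)))) =>
      exists_kerPt N x.1 x.2
    let f : AbDual.torsPts G N (Over.mk (Spec.map (CommRingCat.ofHom (IsLocalRing.residue R)))) →
        (SGA7.pt (K := κ) κ ⟶ Zk) := fun x =>
      Over.homMk (pullback.lift (z x) (𝟙 _) ((hz2 x).trans (Category.id_comp _).symm)) ((pullback.lift_snd _ _ _).trans (by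
        show 𝟙 _ = Spec.map (CommRingCat.ofHom (algebraMap κ κ))
        rw [Algebra.algebraMap_self]
        exact (Spec.map_id _).symm))
    refine Finite.of_injective f fun x y h => Subtype.ext (Over.OverMorphism.ext ?_)
    have h' := congrArg (fun g : SGA7.pt (K := κ) κ ⟶ Zk =>
      g.left ≫ pullback.fst q (Spec.map (CommRingCat.ofHom (IsLocalRing.residue R)))) h
    rw [← hz1 x, ← hz1 y]
    exact congrArg (· ≫ pullback.fst _ _) ((pullback.lift_fst _ _ _).symm.trans (h'.trans (pullback.lift_fst _ _ _)))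
  exact Nat.card_le_card_of_injective Φ hΦ

end Groth.Agent.TorsLift22
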